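import Groth.Agent.Lib.DeformIso.Basic
import Groth.Agent.Lib.Serre.Smooth
import Groth.Agent.Lib.AdicExtra.Completion
import Mathlib.RingTheory.AdicCompletion.LocalRing
import Mathlib.RingTheory.AdicCompletion.AsTensorProduct

/-!
# Local rings of the base change to the completion, at points of the closed fibre
-/

set_option linter.style.haveILetI false
set_option backward.isDefEq.respectTransparency false

universe u

open CategoryTheory Limits AlgebraicGeometry IsLocalRing

namespace GrothLib.CplStalk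

variable (A : Type u) [CommRing A] [IsLocalRing A] [IsNoetherianRing A]
variable {X : Scheme.{u}} (f : X ⟶ Spec (CommRingCat.of A))

noncomputable abbrev cplMap : Spec (CommRingCat.of (AdicCompletion (maximalIdeal A) A)) ⟶ Spec (CommRingCat.of A) :=
  Spec.map (CommRingCat.ofHom (algebraMap A (AdicCompletion (maximalIdeal A) A)))

theorem flat_cplMap : Flat (cplMap A) := by
  rw [Flat.SpecMap_iff]
  exact RingHom.flat_algebraMap_iff.2 inferInstance

theorem germ_square {R S : Type u} [CommRing R] [CommRing S] (φ : R →+* S) {X Y : Scheme.{u}}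
    (f : X ⟶ Spec (CommRingCat.of R)) (p : Y ⟶ X) (q : Y ⟶ Spec (CommRingCat.of S))
    (h : p ≫ f = q ≫ Spec.map (CommRingCat.ofHom φ)) (y : Y) :
    (CommRingCat.ofHom φ ≫ (Scheme.ΓSpecIso (CommRingCat.of S)).inv) ≫
      (Spec (CommRingCat.of S)).presheaf.germ ⊤ (q y) trivial ≫ q.stalkMap y =
    (Scheme.ΓSpecIso (CommRingCat.of R)).inv ≫
      (Spec (CommRingCat.of R)).presheaf.germ ⊤ (f (p y)) trivial ≫ f.stalkMap (p y) ≫ p.stalkMap y := by
  have hq := q.germ_stalkMap ⊤ y trivial
  have hf := f.germ_stalkMap ⊤ (p y) trivial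
  have hp := p.germ_stalkMap ⊤ y trivial
  rw [hq, reassoc_of% hf, Scheme.ΓSpecIso_inv_naturality (CommRingCat.ofHom φ), Category.assoc]
  have h2 := congrArg Scheme.Hom.appTop h
  simp only [Scheme.Hom.comp_appTop] at h2
  congr 1
  show (Spec.map (CommRingCat.ofHom φ)).appTop ≫ q.appTop ≫ Y.presheaf.germ ⊤ y trivial =
    f.appTop ≫ (X.presheaf.germ ⊤ (p y) trivial ≫ p.stalkMap y)
  rw [hp]
  show _ = f.appTop ≫ p.appTop ≫ Y.presheaf.germ ⊤ y trivial
  rw [reassoc_of% h2]

/-- At a point over the closed point the maximal ideal of the source generates. -/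
theorem map_maximalIdeal (y : ↥(pullback f (cplMap A)))
    (hy : (pullback.snd f (cplMap A)).base y = closedPoint (AdicCompletion (maximalIdeal A) A)) :
    (maximalIdeal (X.presheaf.stalk ((pullback.fst f (cplMap A)).base y))).map
      ((pullback.fst f (cplMap A)).stalkMap y).hom =
      maximalIdeal ((pullback f (cplMap A)).presheaf.stalk y) := by
  set Ah := AdicCompletion (maximalIdeal A) A
  set π₁ := pullback.fst f (cplMap A) with hπ₁
  set π₂ := pullback.snd f (cplMap A) with hπ₂
  haveI : IsLocalRing Ah := AdicCompletion.isLocalRing_of_fg (Ideal.fg_of_isNoetherianRing _)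
  have hmh : maximalIdeal Ah = (maximalIdeal A).map (algebraMap A Ah) :=
    AdicCompletion.maximalIdeal_eq_map
  have hsurj : Function.Surjective ((Ideal.Quotient.mk (maximalIdeal Ah)).comp (algebraMap A Ah)) := by
    intro z
    obtain ⟨z, rfl⟩ := Ideal.Quotient.mk_surjective z
    obtain ⟨a, ha⟩ := Ideal.Quotient.mk_surjective (AdicCompletion.evalOneₐ (maximalIdeal A) z)
    refine ⟨a, (Ideal.Quotient.eq).2 ?_⟩
    rw [AdicCompletion.mem_maximalIdeal_iff_eval_one_eq_zero]
    have h0 : AdicCompletion.evalOneₐ (maximalIdeal A) (algebraMap A Ah a - z) = 0 := by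
      rw [map_sub, AlgHom.commutes, ← ha]
      exact sub_self _
    have h1 := AdicCompletion.ker_evalOneₐ_eq_map (maximalIdeal A) (Ideal.fg_of_isNoetherianRing _)
    have : algebraMap A Ah a - z ∈ maximalIdeal Ah := by
      rw [hmh, ← h1]
      exact h0
    rwa [AdicCompletion.mem_maximalIdeal_iff_eval_one_eq_zero] at this
  let iS : Spec (CommRingCat.of (Ah ⧸ maximalIdeal Ah)) ⟶ Spec (CommRingCat.of Ah) :=
    Spec.map (CommRingCat.ofHom (Ideal.Quotient.mk (maximalIdeal Ah)))
  haveI : IsClosedImmersion iS := IsClosedImmersion.spec_of_surjective _ Ideal.Quotient.mk_surjective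
  haveI : IsClosedImmersion (iS ≫ cplMap A) := by
    rw [← Spec.map_comp]
    exact IsClosedImmersion.spec_of_surjective _ hsurj
  have hP := IsPullback.of_hasPullback π₂ iS
  haveI : Nontrivial (Ah ⧸ maximalIdeal Ah) :=
    Ideal.Quotient.nontrivial_iff.2 (maximalIdeal.isMaximal Ah).ne_top
  haveI : IsLocalRing (Ah ⧸ maximalIdeal Ah) :=
    IsLocalRing.of_surjective' (Ideal.Quotient.mk (maximalIdeal Ah)) Ideal.Quotient.mk_surjective
  haveI : IsLocalHom (Ideal.Quotient.mk (maximalIdeal Ah)) :=
    IsLocalHom.of_surjective _ Ideal.Quotient.mk_surjective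
  obtain ⟨y₀, hy₀, -⟩ := Scheme.Pullback.exists_preimage_pullback (f := π₂) (g := iS) y
    (closedPoint (Ah ⧸ maximalIdeal Ah)) (hy.trans (IsLocalRing.comap_closedPoint (Ideal.Quotient.mk (maximalIdeal Ah))).symm)
  subst hy₀
  set iY := pullback.fst π₂ iS with hiY
  haveI : IsClosedImmersion (iY ≫ π₁) :=
    MorphismProperty.of_isPullback (P := @IsClosedImmersion)
      (hP.paste_horiz (IsPullback.of_hasPullback f (cplMap A))).flip inferInstance
  refine le_antisymm ?_ fun b hb => ?_
  · rw [Ideal.map_le_iff_le_comap]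
    exact fun a ha hu => ha (isUnit_of_map_unit (π₁.stalkMap (iY y₀)).hom a hu)
  have hs : Function.Surjective ((iY ≫ π₁).stalkMap y₀).hom := (iY ≫ π₁).stalkMap_surjective y₀
  obtain ⟨a, ha⟩ := hs ((iY.stalkMap y₀).hom b)
  rw [Scheme.Hom.stalkMap_comp] at ha
  have ha' : (iY.stalkMap y₀).hom ((π₁.stalkMap (iY y₀)).hom a) = (iY.stalkMap y₀).hom b := ha
  have ham : a ∈ maximalIdeal (X.presheaf.stalk (π₁ (iY y₀))) := by
    intro hu
    have := (hu.map (π₁.stalkMap (iY y₀)).hom).map (iY.stalkMap y₀).hom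
    rw [ha'] at this
    exact hb (isUnit_of_map_unit _ _ this)
  have hker : b - (π₁.stalkMap (iY y₀)).hom a ∈ RingHom.ker (iY.stalkMap y₀).hom := by
    rw [RingHom.mem_ker, map_sub, ha', sub_self]
  rw [GrothLib.DeformIso.ker_stalkMap_of_isPullback hP y₀
    ⟨⊤, isAffineOpen_top _⟩ trivial] at hker
  suffices hle : ((iS.ker.ideal ⟨⊤, isAffineOpen_top _⟩).map
      ((Spec (CommRingCat.of Ah)).presheaf.germ ⊤ (π₂ (iY y₀)) trivial).hom).map
        (π₂.stalkMap (iY y₀)).hom ≤ (maximalIdeal _).map (π₁.stalkMap (iY y₀)).hom by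
    have := add_mem (hle hker) (Ideal.mem_map_of_mem (π₁.stalkMap (iY y₀)).hom ham)
    rwa [sub_add_cancel] at this
  rw [Ideal.map_map, Scheme.Hom.ker_apply]
  rw [Ideal.map_le_iff_le_comap]
  intro c hc
  set e := (Scheme.ΓSpecIso (CommRingCat.of Ah)) with he
  have hc1 : e.hom.hom c ∈ maximalIdeal Ah := by
    refine Ideal.Quotient.eq_zero_iff_mem.1 ?_
    have h1 := congrArg (fun φ => φ.hom c)
      (Scheme.ΓSpecIso_naturality (CommRingCat.ofHom (Ideal.Quotient.mk (maximalIdeal Ah))))
    simp only [CommRingCat.hom_comp, RingHom.comp_apply] at h1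
    refine h1.symm.trans ?_
    rw [show (iS.appTop).hom c = 0 from hc, map_zero]
  have hc2 : c ∈ (maximalIdeal A).map ((e.inv.hom).comp (algebraMap A Ah)) := by
    rw [← Ideal.map_map, ← hmh]
    have := Ideal.mem_map_of_mem e.inv.hom hc1
    rwa [← RingHom.comp_apply, ← CommRingCat.hom_comp, e.hom_inv_id] at this
  rw [Ideal.mem_comap]
  have h3 := Ideal.mem_map_of_mem ((π₂.stalkMap (iY y₀)).hom.comp
    ((Spec (CommRingCat.of Ah)).presheaf.germ ⊤ (π₂ (iY y₀)) trivial).hom) hc2
  rw [Ideal.map_map] at h3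
  refine Ideal.map_le_iff_le_comap.2 (fun a' ha' => ?_) h3
  rw [Ideal.mem_comap]
  let ψ := (CommRingCat.ofHom (algebraMap A Ah) ≫ e.inv) ≫
    (Spec (CommRingCat.of Ah)).presheaf.germ ⊤ (π₂ (iY y₀)) trivial ≫ π₂.stalkMap (iY y₀)
  have hψ : ψ = (Scheme.ΓSpecIso (CommRingCat.of A)).inv ≫
      (Spec (CommRingCat.of A)).presheaf.germ ⊤ (f (π₁ (iY y₀))) trivial ≫ f.stalkMap (π₁ (iY y₀)) ≫
        π₁.stalkMap (iY y₀) :=
    germ_square (algebraMap A Ah) f π₁ π₂ pullback.condition (iY y₀)
  show ψ.hom a' ∈ _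
  rw [hψ]
  simp only [CommRingCat.hom_comp, RingHom.comp_apply]
  refine Ideal.mem_map_of_mem _ ?_
  intro hu
  have hu2 := isUnit_of_map_unit (f.stalkMap (π₁ (iY y₀))).hom _ hu
  have hfx : f (π₁ (iY y₀)) = closedPoint A := by
    rw [← Scheme.Hom.comp_apply, pullback.condition, Scheme.Hom.comp_apply, ← hπ₂]
    rw [show π₂ (iY y₀) = closedPoint Ah from hy]
    haveI : IsLocalHom (algebraMap A Ah) := AdicCompletion.algebraMap_isLocalHom_of_fg (Ideal.fg_of_isNoetherianRing _)
    exact IsLocalRing.comap_closedPoint _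
  have hmem : (f (π₁ (iY y₀))) ∈ (Spec (CommRingCat.of A)).basicOpen
      ((Scheme.ΓSpecIso (CommRingCat.of A)).inv.hom a') := ((Spec (CommRingCat.of A)).mem_basicOpen _ _ (show _ ∈ (⊤ : (Spec (CommRingCat.of A)).Opens) from trivial)).2 hu2
  rw [basicOpen_eq_of_affine', hfx, PrimeSpectrum.mem_basicOpen] at hmem
  apply hmem
  show ((Scheme.ΓSpecIso (CommRingCat.of A)).hom.hom ((Scheme.ΓSpecIso (CommRingCat.of A)).inv.hom a')) ∈ maximalIdeal A
  rw [← RingHom.comp_apply, ← CommRingCat.hom_comp, Iso.inv_hom_id]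
  exact ha'

/-- Regularity at a point over the closed point. -/
theorem isRegularLocalRing_iff [LocallyOfFiniteType f] (y : ↥(pullback f (cplMap A)))
    (hy : (pullback.snd f (cplMap A)).base y = closedPoint (AdicCompletion (maximalIdeal A) A)) :
    IsRegularLocalRing ((pullback f (cplMap A)).presheaf.stalk y) ↔
      IsRegularLocalRing (X.presheaf.stalk ((pullback.fst f (cplMap A)).base y)) := by
  haveI : IsLocallyNoetherian X := LocallyOfFiniteType.isLocallyNoetherian f
  haveI : IsLocallyNoetherian (pullback f (cplMap A)) :=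
    LocallyOfFiniteType.isLocallyNoetherian (pullback.snd f (cplMap A))
  haveI : Flat (cplMap A) := flat_cplMap A
  haveI : Flat (pullback.fst f (cplMap A)) := inferInstance
  set φ := ((pullback.fst f (cplMap A)).stalkMap y).hom
  letI : Algebra (X.presheaf.stalk ((pullback.fst f (cplMap A)).base y))
      ((pullback f (cplMap A)).presheaf.stalk y) := φ.toAlgebra
  haveI : Module.Flat (X.presheaf.stalk ((pullback.fst f (cplMap A)).base y))
      ((pullback f (cplMap A)).presheaf.stalk y) := Flat.stalkMap (pullback.fst f (cplMap A)) y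
  haveI : IsLocalHom (algebraMap (X.presheaf.stalk ((pullback.fst f (cplMap A)).base y))
      ((pullback f (cplMap A)).presheaf.stalk y)) := inferInstanceAs (IsLocalHom φ)
  constructor
  · intro h
    exact GrothLib.Serre.isRegularLocalRing_of_flat _ ((pullback f (cplMap A)).presheaf.stalk y)
  · intro h
    refine GrothLib.Serre.isRegularLocalRing_of_flat_of_fibre
      (X.presheaf.stalk ((pullback.fst f (cplMap A)).base y)) _ ?_
    exact IsRegularLocalRing.of_ringEquiv (R := ResidueField ((pullback f (cplMap A)).presheaf.stalk y))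
      (Ideal.quotEquivOfEq (map_maximalIdeal A f y hy).symm)

end GrothLib.CplStalk

namespace GrothLib.CplStalk

open CategoryTheory AlgebraicGeometry

/-- Regular local rings localise: regularity at a point passes to generisations. -/
theorem isRegularLocalRing_of_specializes
    (h0564 : ∀ (R : Type u) [CommRing R] [IsRegularLocalRing R] (p : Ideal R) [p.IsPrime],
      IsRegularLocalRing (Localization.AtPrime p))
    {X : Scheme.{u}} {x x' : X} (h : x ⤳ x') (hr : IsRegularLocalRing (X.presheaf.stalk x')) :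
    IsRegularLocalRing (X.presheaf.stalk x) := by
  obtain ⟨_, ⟨U, hU, rfl⟩, hx', -⟩ :=
    X.isBasis_affineOpens.exists_subset_of_mem_open (Set.mem_univ x') isOpen_univ
  have hx : x ∈ U := h.mem_open U.2 hx'
  haveI := hr
  set P := (hU.primeIdealOf ⟨x, hx⟩).asIdeal
  set P' := (hU.primeIdealOf ⟨x', hx'⟩).asIdeal
  have hle : P ≤ P' := by
    have : hU.primeIdealOf ⟨x, hx⟩ ⤳ hU.primeIdealOf ⟨x', hx'⟩ := by
      rw [← hU.fromSpec.isOpenEmbedding.isInducing.specializes_iff, hU.fromSpec_primeIdealOf,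
        hU.fromSpec_primeIdealOf]
      exact h
    exact (PrimeSpectrum.le_iff_specializes _ _).2 this
  letI algS : Algebra Γ(X, U) (X.presheaf.stalk x') :=
    TopCat.Presheaf.algebra_section_stalk X.presheaf (⟨x', hx'⟩ : U)
  haveI : IsLocalization P'.primeCompl (X.presheaf.stalk x') := hU.isLocalization_stalk ⟨x', hx'⟩
  have hdisj : Disjoint (P'.primeCompl : Set Γ(X, U)) (P : Set Γ(X, U)) :=
    Set.disjoint_left.2 fun b hb hbP => hb (hle hbP)
  set p := P.map (algebraMap Γ(X, U) (X.presheaf.stalk x')) with hp0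
  haveI hp : p.IsPrime := IsLocalization.isPrime_of_isPrime_disjoint P'.primeCompl (X.presheaf.stalk x') P inferInstance hdisj
  have hcomap : p.comap (algebraMap Γ(X, U) (X.presheaf.stalk x')) = P :=
    IsLocalization.under_map_of_isPrime_disjoint P'.primeCompl (X.presheaf.stalk x') inferInstance hdisj
  have h1 : IsLocalization.AtPrime (Localization.AtPrime p)
      (p.comap (algebraMap Γ(X, U) (X.presheaf.stalk x'))) :=
    IsLocalization.isLocalization_isLocalization_atPrime_isLocalization P'.primeCompl (Localization.AtPrime p) p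
  letI algx : Algebra Γ(X, U) (X.presheaf.stalk x) :=
    TopCat.Presheaf.algebra_section_stalk X.presheaf (⟨x, hx⟩ : U)
  haveI : IsLocalization.AtPrime (X.presheaf.stalk x) (p.comap (algebraMap Γ(X, U) (X.presheaf.stalk x'))) := by
    simp only [hcomap]
    exact hU.isLocalization_stalk ⟨x, hx⟩
  haveI := h0564 (X.presheaf.stalk x') p
  exact IsRegularLocalRing.of_ringEquiv
    (IsLocalization.algEquiv (p.comap (algebraMap Γ(X, U) (X.presheaf.stalk x'))).primeCompl
      (Localization.AtPrime p) (X.presheaf.stalk x)).toRingEquiv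

end GrothLib.CplStalk
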